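import Cfsg.Agent.TwoClasses.Tools
import Cfsg.Agent.Characters.Linear
import Cfsg.Agent.Characters.Integrality
import Cfsg.Agent.OddOrderChar.KernelFacts
import Cfsg.Agent.BlocksCharsC.PGroupCenter
import Cfsg.Agent.GaloisConj.Basic
import Mathlib.GroupTheory.Commutator.Basic
import Mathlib.GroupTheory.SpecificGroups.Cyclic
import Mathlib.RingTheory.IntegralDomain
import Mathlib.RingTheory.RootsOfUnity.PrimitiveRoots

/-!
# Nonlinear characters of `p`-groups with derived group of order `p`
-/

set_option autoImplicit false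
set_option linter.style.haveILetI false
set_option linter.unusedSectionVars false

namespace CfsgLib.SameDegree

open CfsgLib
open scoped ComplexConjugate

universe u
variable {G : Type u} [Group G] [Finite G]

/-- Nonlinear irreducible characters of equal degree have the same kernel. -/
def SameKer (G : Type u) [Group G] : Prop :=
  ∀ χ ψ : Cfsg.IrrCharacter G, (χ : G → ℂ) 1 ≠ 1 → (χ : G → ℂ) 1 = (ψ : G → ℂ) 1 →
    ∀ g, (χ : G → ℂ) g = (χ : G → ℂ) 1 → (ψ : G → ℂ) g = (ψ : G → ℂ) 1

theorem SameKer.quotient (h : SameKer G) (N : Subgroup G) [N.Normal] : SameKer (G ⧸ N) := by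
  intro χ ψ h1 h2 q hq
  obtain ⟨g, rfl⟩ := QuotientGroup.mk'_surjective N q
  exact h ⟨fun x => (χ : G ⧸ N → ℂ) (QuotientGroup.mk' N x),
      Characters.isIrr_comp _ (QuotientGroup.mk'_surjective N) χ.2⟩
    ⟨fun x => (ψ : G ⧸ N → ℂ) (QuotientGroup.mk' N x),
      Characters.isIrr_comp _ (QuotientGroup.mk'_surjective N) ψ.2⟩
    (by simpa using h1) (by simpa using h2) g (by simpa using hq)

/-- An irreducible character that is trivial on the derived group has degree one. -/
theorem degree_one_of_commutator_le {χ : G → ℂ} (hχ : Cfsg.IsIrrCharacter G χ)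
    (h : ∀ c ∈ commutator G, χ c = χ 1) : χ 1 = 1 := by
  obtain ⟨ψ, hψ, hψe⟩ := Characters.exists_irr_quotient (commutator G) hχ h
  rw [hψe]
  exact TwoClasses.irr_degree_one_of_comm
    (G := G ⧸ commutator G) (fun a b =>
    (inferInstance : Std.Commutative (α := Abelianization G) (· * ·)).comm a b) hψ

/-- A nontrivial element is outside the kernel of some irreducible character. -/
theorem exists_irr_ne {c : G} (hc : c ≠ 1) :
    ∃ χ : Cfsg.IrrCharacter G, (χ : G → ℂ) c ≠ (χ : G → ℂ) 1 := by
  by_contra hne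
  push Not at hne
  haveI := Fintype.ofFinite G
  exact hc (isConj_one_left.1 (Characters.isConj_of_irr_eq fun χ => hne χ))

theorem linear_commutator {χ : G → ℂ} (hχ : Cfsg.IsIrrCharacter G χ) (h1 : χ 1 = 1) {c : G}
    (hc : c ∈ commutator G) : χ c = χ 1 := by
  obtain ⟨f, rfl⟩ := Characters.exists_hom_of_degree_one (Characters.isCharacter_of_isIrr hχ) h1
  have : f c = 1 := MonoidHom.mem_ker.1 (Abelianization.commutator_subset_ker f hc)
  simp [this]

theorem exists_nonlinear (h : commutator G ≠ ⊥) :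
    ∃ χ : Cfsg.IrrCharacter G, (χ : G → ℂ) 1 ≠ 1 := by
  obtain ⟨c, hc, hc1⟩ := BlocksCharsC.exists_mem_ne_one h
  obtain ⟨χ, hχ⟩ := exists_irr_ne hc1
  exact ⟨χ, fun h1 => hχ (linear_commutator χ.2 h1 hc)⟩

/-- An irreducible character is at most the index of an abelian subgroup in degree. -/
theorem degree_le_index (C : Subgroup G) (hC : ∀ a ∈ C, ∀ b ∈ C, a * b = b * a)
    {χ : G → ℂ} (hχ : Cfsg.IsIrrCharacter G χ) : ∃ d : ℕ, χ 1 = d ∧ d ≤ C.index := by
  obtain ⟨n, ρ, hρ, rfl⟩ := hχ
  haveI := Characters.nontrivial_of_isIrreducible ρ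
  haveI : NeZero (Nat.card C : ℂ) := ⟨Nat.cast_ne_zero.2 Nat.card_pos.ne'⟩
  obtain ⟨S, hS⟩ := Characters.exists_irreducible_subrep (ρ.comp C.subtype)
  haveI := hS
  have h1 := TwoClasses.irr_degree_one_of_comm (G := C)
    (fun a b => Subtype.ext (hC a a.2 b b.2))
    (Characters.isIrrCharacter_character S.toRepresentation)
  rw [Representation.char_one, Nat.cast_eq_one] at h1
  refine ⟨_, Representation.char_one ρ, ?_⟩
  have h2 := OddOrderChar.finrank_le_index_mul ρ C S (by rw [h1]; exact one_pos)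
  rwa [h1, mul_one] at h2

theorem IsPGroup.central_of_card_eq {p : ℕ} [Fact p.Prime] (hP : IsPGroup p G) (N : Subgroup G)
    [N.Normal] (hN : Nat.card N = p) : N ≤ Subgroup.center G := by
  haveI : Nontrivial N := Finite.one_lt_card_iff_nontrivial.1 (hN ▸ (Fact.out : p.Prime).one_lt)
  have h := BlocksCharsC.inf_center_ne_bot hP N
  have hd := Subgroup.card_dvd_of_le (inf_le_left : N ⊓ Subgroup.center G ≤ N)
  rw [hN] at hd
  rcases (Nat.dvd_prime Fact.out).1 hd with h1 | h1
  · exact absurd ((Subgroup.card_eq_one).1 h1) h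
  · exact le_trans (Subgroup.eq_of_le_of_card_ge inf_le_left (by rw [h1, hN])).ge inf_le_right

theorem eq_or_eq_bot_of_le {p : ℕ} [Fact p.Prime] {H K : Subgroup G} (hK : Nat.card K = p)
    (h : H ≤ K) : H = ⊥ ∨ H = K := by
  rcases (Nat.dvd_prime Fact.out).1 (hK ▸ Subgroup.card_dvd_of_le h) with h1 | h1
  · exact Or.inl (Subgroup.card_eq_one.1 h1)
  · exact Or.inr (Subgroup.eq_of_le_of_card_ge h (by rw [h1, hK]))

/-- A normal subgroup of a `p`-group other than `⊥` contains a normal subgroup of index `p`. -/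
theorem exists_normal_card_mul {p : ℕ} [Fact p.Prime] (hP : IsPGroup p G) (H : Subgroup G)
    [H.Normal] (hH : H ≠ ⊥) :
    ∃ M : Subgroup G, M.Normal ∧ M ≤ H ∧ p * Nat.card M = Nat.card H := by
  classical
  suffices key : ∀ (k : ℕ) (G : Type u) [Group G] [Finite G], IsPGroup p G →
      ∀ H : Subgroup G, H.Normal → Nat.card H = p ^ (k + 1) →
      ∃ M : Subgroup G, M.Normal ∧ M ≤ H ∧ p * Nat.card M = Nat.card H by
    obtain ⟨k, hk⟩ := IsPGroup.iff_card.1 (hP.to_subgroup H)
    obtain ⟨j, rfl⟩ : ∃ j, k = j + 1 := by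
      rcases k with _ | j
      · exact absurd (Subgroup.card_eq_one.1 (by simpa using hk)) hH
      · exact ⟨j, rfl⟩
    exact key j G hP H inferInstance hk
  intro k
  induction k with
  | zero =>
    intro G _ _ _ H _ hk
    exact ⟨⊥, inferInstance, bot_le, by rw [Subgroup.card_bot, hk, mul_one, pow_one]⟩
  | succ k ih =>
    intro G _ _ hP H hHn hk
    haveI := hHn
    haveI : Nontrivial H := Finite.one_lt_card_iff_nontrivial.1
      (hk ▸ Nat.one_lt_pow (by omega) (Fact.out : p.Prime).one_lt)
    have hne := BlocksCharsC.inf_center_ne_bot hP H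
    obtain ⟨z, hz⟩ := exists_prime_orderOf_dvd_card' (G := ↥(H ⊓ Subgroup.center G)) p (by
      haveI : Nontrivial ↥(H ⊓ Subgroup.center G) := (Subgroup.nontrivial_iff_ne_bot _).2 hne
      exact (hP.to_subgroup _).card_eq_or_dvd.resolve_left Finite.one_lt_card.ne')
    let W := Subgroup.zpowers (z : G)
    haveI : W.Normal := ⟨fun w hw g => by
      obtain ⟨i, rfl⟩ := hw
      show g * (z : G) ^ i * g⁻¹ ∈ W
      have hc : Commute g (z : G) := Subgroup.mem_center_iff.1 z.2.2 g
      rw [(hc.zpow_right i).eq, mul_inv_cancel_right]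
      exact Subgroup.zpow_mem_zpowers _ _⟩
    have hW : Nat.card W = p := by
      rw [Nat.card_zpowers, ← hz]
      exact Subgroup.orderOf_coe z
    have hWH : W ≤ H := Subgroup.zpowers_le.2 z.2.1
    let f := QuotientGroup.mk' W
    have hker : f.ker ≤ H := by rwa [QuotientGroup.ker_mk']
    have hcard : Nat.card (H.map f) * p = Nat.card H := by
      have h1 := H.card_mul_index
      have h2 := (H.map f).card_mul_index
      rw [H.index_map_eq (QuotientGroup.mk'_surjective W) hker,
        Subgroup.index_eq_card] at h2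
      have h3 : Nat.card G = Nat.card (G ⧸ W) * Nat.card W :=
        Subgroup.card_eq_card_quotient_mul_card_subgroup W
      rw [hW, ← h2, ← h1, Subgroup.index_eq_card] at h3
      exact Nat.eq_of_mul_eq_mul_right (Nat.pos_of_ne_zero (Nat.card_ne_zero.2
        ⟨inferInstance, inferInstance⟩) : 0 < Nat.card (G ⧸ H)) (by linarith)
    obtain ⟨M, hMn, hMle, hMc⟩ := ih (G ⧸ W) (hP.to_quotient W) (H.map f)
      (hHn.map f (QuotientGroup.mk'_surjective W))
      (Nat.eq_of_mul_eq_mul_right (Fact.out : p.Prime).pos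
        (hcard.trans (hk.trans (pow_succ _ _))))
    refine ⟨M.comap f, hMn.comap f, ?_, ?_⟩
    · intro x hx
      obtain ⟨y, hy, he⟩ := hMle hx
      have : y⁻¹ * x ∈ f.ker := by rw [MonoidHom.mem_ker, map_mul, map_inv, he, inv_mul_cancel]
      simpa using H.mul_mem hy (hker this)
    · have h1 := (M.comap f).card_mul_index
      rw [Subgroup.index_comap_of_surjective M (QuotientGroup.mk'_surjective W)] at h1
      have h2 := M.card_mul_index
      have h3 : Nat.card G = Nat.card (G ⧸ W) * Nat.card W :=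
        Subgroup.card_eq_card_quotient_mul_card_subgroup W
      rw [hW, ← h2, ← h1] at h3
      have h4 : Nat.card (M.comap f) = Nat.card M * p :=
        Nat.eq_of_mul_eq_mul_right (Nat.pos_of_ne_zero Subgroup.index_ne_zero_of_finite)
          (by rw [h3]; ring)
      rw [h4, ← hcard, ← hMc]
      ring

section DerivedPrime

variable {p : ℕ} [Fact p.Prime] (hP : IsPGroup p G) (hG' : Nat.card (commutator G) = p)
include hP hG'

theorem commutator_le_center : commutator G ≤ Subgroup.center G :=
  IsPGroup.central_of_card_eq hP _ hG'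

theorem pow_mem_center (x : G) : x ^ p ∈ Subgroup.center G := by
  rw [Subgroup.mem_center_iff]
  intro y
  have hc : y * x * y⁻¹ * x⁻¹ ∈ commutator G :=
    Subgroup.commutator_mem_commutator (Subgroup.mem_top y) (Subgroup.mem_top x)
  set c := y * x * y⁻¹ * x⁻¹ with hcd
  have hcx : Commute c x := (Subgroup.mem_center_iff.1 (commutator_le_center hP hG' hc) x).symm
  have hcp : c ^ p = 1 := by
    have := congrArg Subtype.val (pow_card_eq_one' (x := (⟨c, hc⟩ : commutator G)))
    rwa [hG'] at this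
  refine mul_inv_eq_iff_eq_mul.1 ?_
  rw [← conj_pow, show y * x * y⁻¹ = c * x by rw [hcd]; group, hcx.mul_pow, hcp, one_mul]

/-- Nonlinear characters vanish off the centre, scale on it, and have degree `√(G : Z)`. -/
theorem nonlinear_structure {χ : G → ℂ} (hχ : Cfsg.IsIrrCharacter G χ) (h1 : χ 1 ≠ 1) :
    ∃ (d : ℕ) (l : Subgroup.center G →* ℂˣ), χ 1 = d ∧ 0 < d ∧
      d ^ 2 * Nat.card (Subgroup.center G) = Nat.card G ∧
      (∀ x, x ∉ Subgroup.center G → χ x = 0) ∧
      (∀ z : Subgroup.center G, χ z = d * (l z : ℂ)) := by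
  classical
  haveI := Fintype.ofFinite G
  have hker : ¬ ∀ c ∈ commutator G, χ c = χ 1 := fun h => h1 (degree_one_of_commutator_le hχ h)
  obtain ⟨n, ρ, hρ, rfl⟩ := hχ
  haveI := Characters.nontrivial_of_isIrreducible ρ
  have hd : ρ.character 1 = (n : ℂ) := by rw [Representation.char_one, Module.finrank_fin_fun]
  have hn : 0 < n := Nat.pos_of_ne_zero fun h => by
    subst h
    exact not_nontrivial (Fin 0 → ℂ) inferInstance
  choose ω hω using fun z : Subgroup.center G => Characters.central_scalar ρ z.2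
  obtain ⟨v, hv⟩ := exists_ne (0 : Fin n → ℂ)
  have hinj : ∀ a b : ℂ, a • (LinearMap.id : (Fin n → ℂ) →ₗ[ℂ] _) = b • LinearMap.id → a = b :=
    fun a b h => smul_left_injective ℂ hv (by simpa using LinearMap.congr_fun h v)
  let l0 : Subgroup.center G →* ℂ :=
    { toFun := ω
      map_one' := hinj _ _ (by rw [← hω, one_smul, Subgroup.coe_one, map_one]; rfl)
      map_mul' := fun a b => hinj _ _ (by
        rw [← hω, Subgroup.coe_mul, map_mul, hω, hω, Module.End.mul_eq_comp]
        ext x; simp [mul_assoc]) }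
  have hval : ∀ (z : Subgroup.center G) (g : G),
      ρ.character (z * g) = ω z * ρ.character g := fun z g => by
    simp only [Representation.character, map_mul, hω]
    simp [Module.End.mul_eq_comp]
  have hz : ∀ z : Subgroup.center G, ρ.character z = n * (l0.toHomUnits z : ℂ) := fun z => by
    have := hval z 1
    rw [mul_one, hd, mul_comm] at this
    simpa [l0] using this
  -- vanishing
  have hvan : ∀ x, x ∉ Subgroup.center G → ρ.character x = 0 := by
    intro x hx
    rw [Subgroup.mem_center_iff] at hx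
    push Not at hx
    obtain ⟨y, hy⟩ := hx
    have hc : y * x * y⁻¹ * x⁻¹ ∈ commutator G :=
      Subgroup.commutator_mem_commutator (Subgroup.mem_top y) (Subgroup.mem_top x)
    have hcZ := commutator_le_center hP hG' hc
    have h := hval ⟨_, hcZ⟩ x
    rw [show y * x * y⁻¹ * x⁻¹ * x = y * x * y⁻¹ by group, Representation.char_conj] at h
    have hne : ω ⟨_, hcZ⟩ ≠ 1 := by
      intro hw
      apply hker
      intro c hc'
      have hgen : Subgroup.zpowers (y * x * y⁻¹ * x⁻¹) = commutator G := by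
        refine (eq_or_eq_bot_of_le hG' (Subgroup.zpowers_le.2 hc)).resolve_left ?_
        rw [Subgroup.zpowers_eq_bot, mul_inv_eq_one, mul_inv_eq_iff_eq_mul]
        exact hy
      rw [← hgen] at hc'
      obtain ⟨i, rfl⟩ := hc'
      have h2 := hz ((⟨_, hcZ⟩ : Subgroup.center G) ^ i)
      rw [map_zpow, show l0.toHomUnits ⟨_, hcZ⟩ = 1 from Units.ext hw, one_zpow, Units.val_one,
        mul_one, Subgroup.coe_zpow] at h2
      rw [hd]; exact h2
    have h0 : (1 - ω ⟨_, hcZ⟩) * ρ.character x = 0 := by rw [sub_mul, one_mul, ← h, sub_self]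
    exact (mul_eq_zero.1 h0).resolve_left (sub_ne_zero.2 hne.symm)
  refine ⟨n, l0.toHomUnits, hd, hn, ?_, hvan, hz⟩
  -- norm one
  have hnorm : Cfsg.classInner ρ.character ρ.character = 1 :=
    Characters.classInner_isIrr_self (Characters.isIrrCharacter_character ρ)
  rw [Cfsg.classInner, inv_mul_eq_one₀ Characters.natCard_ne_zero,
    ← Finset.sum_subset (Finset.subset_univ
      (Finset.univ.filter fun g : G => g ∈ Subgroup.center G)) fun g _ hg => by
        rw [hvan g (by simpa using hg), zero_mul]] at hnorm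
  have hsq : ∀ g ∈ Finset.univ.filter (fun g : G => g ∈ Subgroup.center G),
      ρ.character g * conj (ρ.character g) = (n : ℂ) ^ 2 := by
    intro g hg
    have hg' : g ∈ Subgroup.center G := by simpa using hg
    have h' := hz ⟨g, hg'⟩
    simp only at h'
    have hu : ‖(l0.toHomUnits ⟨g, hg'⟩ : ℂ)‖ = 1 := by
      refine Complex.norm_eq_one_of_pow_eq_one (n := Nat.card (Subgroup.center G)) ?_
        Nat.card_pos.ne'
      rw [← Units.val_pow_eq_pow_val, ← map_pow, pow_card_eq_one', map_one, Units.val_one]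
    rw [h', map_mul, Complex.conj_natCast, mul_mul_mul_comm, Complex.mul_conj', hu]
    push_cast; ring
  rw [Finset.sum_congr rfl hsq, Finset.sum_const, nsmul_eq_mul] at hnorm
  have hcz : (Finset.univ.filter fun g : G => g ∈ Subgroup.center G).card =
      Nat.card (Subgroup.center G) := by
    rw [Nat.card_eq_fintype_card, Fintype.card_subtype]
  rw [hcz] at hnorm
  rw [mul_comm]
  exact_mod_cast hnorm.symm

theorem eq_degree {χ ψ : G → ℂ} (hχ : Cfsg.IsIrrCharacter G χ) (hψ : Cfsg.IsIrrCharacter G ψ)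
    (h1 : χ 1 ≠ 1) (h2 : ψ 1 ≠ 1) : χ 1 = ψ 1 := by
  obtain ⟨a, -, ha, -, ha2, -⟩ := nonlinear_structure hP hG' hχ h1
  obtain ⟨b, -, hb, -, hb2, -⟩ := nonlinear_structure hP hG' hψ h2
  have : a ^ 2 = b ^ 2 := Nat.eq_of_mul_eq_mul_right Nat.card_pos (ha2.trans hb2.symm)
  rw [ha, hb, Nat.pow_left_injective two_ne_zero this]

/-- Galois conjugacy when the centre is cyclic. -/
theorem exists_pow_eq (hZ : IsCyclic (Subgroup.center G)) {χ ψ : G → ℂ}
    (hχ : Cfsg.IsIrrCharacter G χ) (hψ : Cfsg.IsIrrCharacter G ψ)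
    (h1 : χ 1 ≠ 1) (h2 : ψ 1 ≠ 1) :
    ∃ k : ℕ, Nat.Coprime k (Nat.card G) ∧ ∀ g, ψ g = χ (g ^ k) := by
  classical
  obtain ⟨a, l, ha, ha0, -, hav, haz⟩ := nonlinear_structure hP hG' hχ h1
  obtain ⟨b, m, hb, hb0, -, hbv, hbz⟩ := nonlinear_structure hP hG' hψ h2
  have hab : (a : ℂ) = b := ha.symm.trans ((eq_degree hP hG' hχ hψ h1 h2).trans hb)
  obtain ⟨z0, hz0⟩ := hZ.exists_generator
  have hcard : orderOf z0 = Nat.card (Subgroup.center G) :=
    orderOf_eq_card_of_forall_mem_zpowers hz0
  have hprim : ∀ (φ : G → ℂ) (n : Subgroup.center G →* ℂˣ) (d : ℕ), φ 1 = d → 0 < d →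
      Cfsg.IsIrrCharacter G φ → φ 1 ≠ 1 → (∀ z : Subgroup.center G, φ z = d * (n z : ℂ)) →
      IsPrimitiveRoot (n z0) (Nat.card (Subgroup.center G)) := by
    intro φ n d hd hd0 hφ hφ1 hv
    have hinj : Function.Injective n := by
      rw [← MonoidHom.ker_eq_bot_iff]
      by_contra hne
      have hK : IsPGroup p n.ker := (hP.to_subgroup _).to_subgroup _
      haveI : Nontrivial n.ker := (Subgroup.nontrivial_iff_ne_bot _).2 hne
      obtain ⟨w, hw⟩ := exists_prime_orderOf_dvd_card' (G := n.ker) p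
        (hK.card_eq_or_dvd.resolve_left Finite.one_lt_card.ne')
      refine hφ1 (degree_one_of_commutator_le hφ fun c hc => ?_)
      have hcZ := commutator_le_center hP hG' hc
      -- the cyclic centre has only one subgroup of order `p`
      have hmem : (⟨c, hcZ⟩ : Subgroup.center G) ∈ n.ker := by
        let D := (commutator G).subgroupOf (Subgroup.center G)
        have hD : Nat.card D = p := by
          rw [Nat.card_congr (Subgroup.subgroupOfEquivOfLe
            (commutator_le_center hP hG')).toEquiv, hG']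
        have hW : Nat.card (Subgroup.zpowers (w : Subgroup.center G)) = p := by
          rw [Nat.card_zpowers, Subgroup.orderOf_coe, hw]
        haveI := hZ
        have hDW : D = Subgroup.zpowers (w : Subgroup.center G) := by
          have hS : ∀ S : Subgroup (Subgroup.center G), Nat.card S = p →
              (S : Set (Subgroup.center G)) = {a | a ^ p = 1} := by
            intro S hS
            refine Set.eq_of_subset_of_ncard_le (fun a ha => ?_) ?_ (Set.toFinite _)
            · have := congrArg Subtype.val (pow_card_eq_one' (x := (⟨a, ha⟩ : S)))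
              rwa [hS] at this
            · haveI := Fintype.ofFinite (Subgroup.center G)
              rw [← Nat.card_coe_set_eq (S : Set (Subgroup.center G))]
              refine le_of_le_of_eq ?_ hS.symm
              rw [Set.ncard_eq_toFinset_card']
              refine le_trans (le_of_eq ?_) (IsCyclic.card_pow_eq_one_le (α := Subgroup.center G)
                (Fact.out : p.Prime).pos)
              congr 1
              ext a; simp
          exact SetLike.coe_injective ((hS D hD).trans (hS _ hW).symm)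
        refine (Subgroup.zpowers_le.2 w.2) (hDW ▸ ?_)
        exact Subgroup.mem_subgroupOf.2 hc
      have := hv ⟨c, hcZ⟩
      rw [MonoidHom.mem_ker.1 hmem, Units.val_one, mul_one] at this
      rw [this, hd]
    rw [← hcard, ← orderOf_injective n hinj z0]
    exact IsPrimitiveRoot.orderOf _
  have hl := hprim χ l a ha ha0 hχ h1 haz
  have hm := hprim ψ m b hb hb0 hψ h2 hbz
  haveI : NeZero (Nat.card (Subgroup.center G)) := ⟨Nat.card_pos.ne'⟩
  obtain ⟨k, -, hk, hkeq'⟩ :=
    (IsPrimitiveRoot.coe_units_iff.2 hl).isPrimitiveRoot_iff.1 (IsPrimitiveRoot.coe_units_iff.2 hm)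
  have hkeq : l z0 ^ k = m z0 := Units.ext (by rw [Units.val_pow_eq_pow_val]; exact hkeq')
  haveI : Nontrivial G := Finite.one_lt_card_iff_nontrivial.1
    (lt_of_lt_of_le (hG' ▸ (Fact.out : p.Prime).one_lt) (Subgroup.card_le_card_group _))
  haveI := hP.center_nontrivial
  obtain ⟨N, hN⟩ := IsPGroup.iff_card.1 hP
  have hkp : Nat.Coprime k p := Nat.Coprime.coprime_dvd_right
    ((hP.to_subgroup (Subgroup.center G)).card_eq_or_dvd.resolve_left Finite.one_lt_card.ne') hk
  have hkG : Nat.Coprime k (Nat.card G) := hN ▸ hkp.pow_right N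
  refine ⟨k, hkG, fun g => ?_⟩
  by_cases hg : g ∈ Subgroup.center G
  · have hzz : ∀ z : Subgroup.center G, m z = l (z ^ k) := by
      intro z
      obtain ⟨i, rfl⟩ := Subgroup.mem_zpowers_iff.1 (hz0 z)
      rw [map_zpow, map_pow, map_zpow, ← hkeq, ← zpow_natCast, ← zpow_natCast, ← zpow_mul,
        ← zpow_mul, mul_comm]
    rw [hbz ⟨g, hg⟩, hzz, show g ^ k = (((⟨g, hg⟩ : Subgroup.center G) ^ k : Subgroup.center G) : G)
      from (SubmonoidClass.coe_pow (⟨g, hg⟩ : Subgroup.center G) k).symm, haz, hab]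
  · rw [hbv g hg, hav]
    intro hgk
    apply hg
    obtain ⟨j, hj⟩ := exists_pow_eq_self_of_coprime (n := k) (x := g)
      (Nat.Coprime.coprime_dvd_right (orderOf_dvd_natCard g) hkG)
    rw [← hj]
    exact Subgroup.pow_mem _ hgk j

/-- With derived group of order `p`, equal kernels force faithfulness. -/
theorem faithful (hS : SameKer G) {χ : Cfsg.IrrCharacter G} (h1 : (χ : G → ℂ) 1 ≠ 1) {g : G}
    (hg : (χ : G → ℂ) g = (χ : G → ℂ) 1) : g = 1 := by
  classical
  haveI := Fintype.ofFinite G
  refine (isConj_one_left.1 (Characters.isConj_of_irr_eq fun ψ => ?_))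
  by_cases h2 : (ψ : G → ℂ) 1 = 1
  · -- twist by the linear character
    obtain ⟨f, hf⟩ := Characters.exists_hom_of_degree_one (Characters.isCharacter_of_isIrr ψ.2) h2
    have hirr : Cfsg.IsIrrCharacter G ((fun x => (f x : ℂ)) * (χ : G → ℂ)) := by
      refine Characters.isIrr_of_classInner_self (Characters.isCharacter_mul
        (Characters.isCharacter_of_isIrr (Characters.isIrr_linChar f))
        (Characters.isCharacter_of_isIrr χ.2)) ?_
      rw [← Characters.classInner_isIrr_self χ.2, Cfsg.classInner, Cfsg.classInner]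
      congr 1
      refine Finset.sum_congr rfl fun x _ => ?_
      rw [Pi.mul_apply, map_mul, ← Characters.character_inv
        (Characters.isCharacter_of_isIrr (Characters.isIrr_linChar f)) x, mul_mul_mul_comm,
        ← Units.val_mul, ← map_mul, mul_inv_cancel, map_one, Units.val_one, one_mul]
    have h := hS χ ⟨_, hirr⟩ h1 (by simp) g hg
    simp only [Pi.mul_apply, map_one, Units.val_one, one_mul, hg] at h
    rw [hf]
    simp [(mul_eq_right₀ (Characters.irr_one_ne_zero χ.2)).1 h]
  · exact hS χ ψ h1 (eq_degree hP hG' χ.2 ψ.2 h1 h2) g hg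

theorem isCyclic_center (hS : SameKer G) : IsCyclic (Subgroup.center G) := by
  obtain ⟨χ, hχ⟩ := exists_nonlinear (G := G) fun h => by
    rw [h, Subgroup.card_bot] at hG'
    exact (Fact.out : p.Prime).one_lt.ne hG'
  obtain ⟨d, l, hd, -, -, -, hz⟩ := nonlinear_structure hP hG' χ.2 hχ
  refine isCyclic_of_subgroup_isDomain ((Units.coeHom ℂ).comp l) fun a b hab => ?_
  have hl : l a = l b := Units.ext hab
  have h := faithful hP hG' hS hχ (g := ((a⁻¹ * b : Subgroup.center G) : G))
    (by rw [hz, map_mul, map_inv, hl, inv_mul_cancel, Units.val_one, mul_one, hd])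
  exact inv_mul_eq_one.1 (Subtype.ext h)

end DerivedPrime

/-- `G' Gᵖ` -/
def frat (p : ℕ) (G : Type u) [Group G] : Subgroup G :=
  commutator G ⊔ Subgroup.closure (Set.range fun x : G => x ^ p)

theorem degree_of_sameKer {p : ℕ} [Fact p.Prime] (hP : IsPGroup p G)
    (hG' : Nat.card (commutator G) = p) (hS : SameKer G) :
    ∃ χ : Cfsg.IrrCharacter G, ∃ e : ℕ, (χ : G → ℂ) 1 ≠ 1 ∧ (χ : G → ℂ) 1 = ((p ^ e : ℕ) : ℂ) ∧
      ((frat p G).index = p ^ (2 * e) ∨ (frat p G).index = p ^ (2 * e + 1)) := by
  classical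
  have hp := (Fact.out : p.Prime)
  obtain ⟨χ, hχ⟩ := exists_nonlinear (G := G) fun h => by
    rw [h, Subgroup.card_bot] at hG'
    exact hp.one_lt.ne hG'
  obtain ⟨d, l, hd, -, hd2, -, -⟩ := nonlinear_structure hP hG' χ.2 hχ
  obtain ⟨N, hN⟩ := IsPGroup.iff_card.1 hP
  obtain ⟨e, -, he⟩ := (Nat.dvd_prime_pow hp).1
    (hN ▸ (dvd_pow_self d two_ne_zero).trans (Dvd.intro _ hd2) : d ∣ p ^ N)
  subst he
  refine ⟨χ, e, hχ, hd, ?_⟩
  have hFZ : frat p G ≤ Subgroup.center G := sup_le (commutator_le_center hP hG') (by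
    rw [Subgroup.closure_le]
    rintro _ ⟨x, rfl⟩
    exact pow_mem_center hP hG' x)
  have hZi : (Subgroup.center G).index = p ^ (2 * e) := by
    refine Nat.eq_of_mul_eq_mul_left Nat.card_pos ((Subgroup.card_mul_index _).trans ?_)
    rw [← hd2, ← pow_mul, mul_comm e, mul_comm]
  have hrel : (frat p G).relIndex (Subgroup.center G) ∣ p := by
    haveI := isCyclic_center hP hG' hS
    let F := (frat p G).subgroupOf (Subgroup.center G)
    haveI : F.Normal := ⟨fun n hn g => by
      rw [show g * n * g⁻¹ = n by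
        rw [Subtype.ext_iff]; simp [Subgroup.mem_center_iff.1 n.2 (g : G)]]
      exact hn⟩
    obtain ⟨z0, hz0⟩ := (inferInstance : IsCyclic (Subgroup.center G)).exists_generator
    have hgen : ∀ q : Subgroup.center G ⧸ F, q ∈ Subgroup.zpowers (z0 : Subgroup.center G ⧸ F) :=
      fun q => by
        obtain ⟨z, rfl⟩ := QuotientGroup.mk'_surjective F q
        obtain ⟨i, rfl⟩ := Subgroup.mem_zpowers_iff.1 (hz0 z)
        exact ⟨i, (QuotientGroup.mk_zpow F z0 i).symm⟩
    show F.index ∣ p
    rw [Subgroup.index_eq_card, ← orderOf_eq_card_of_forall_mem_zpowers hgen]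
    refine orderOf_dvd_of_pow_eq_one ?_
    rw [← QuotientGroup.mk_pow, QuotientGroup.eq_one_iff, Subgroup.mem_subgroupOf,
      SubmonoidClass.coe_pow]
    exact Subgroup.mem_sup_right (Subgroup.subset_closure ⟨_, rfl⟩)
  have hmul := Subgroup.relIndex_mul_index hFZ
  rcases (Nat.dvd_prime hp).1 hrel with h | h
  · left; rw [← hmul, h, one_mul, hZi]
  · right; rw [← hmul, h, hZi, pow_succ, mul_comm]

theorem card_commutator_quotient {p : ℕ} [Fact p.Prime] (N : Subgroup G) [N.Normal]
    (hle : N ≤ commutator G) (hc : p * Nat.card N = Nat.card (commutator G)) :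
    Nat.card (commutator (G ⧸ N)) = p := by
  have hmap : commutator (G ⧸ N) = (commutator G).map (QuotientGroup.mk' N) := by
    rw [commutator_def, commutator_def, Subgroup.map_commutator,
      Subgroup.map_top_of_surjective _ (QuotientGroup.mk'_surjective N)]
  have h2 := ((commutator G).map (QuotientGroup.mk' N)).card_mul_index
  rw [(commutator G).index_map_eq (QuotientGroup.mk'_surjective N)
    (by rwa [QuotientGroup.ker_mk']), ← hmap] at h2
  have h1 := (commutator G).card_mul_index
  rw [← hc] at h1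
  have h3 : Nat.card G = Nat.card (G ⧸ N) * Nat.card N :=
    Subgroup.card_eq_card_quotient_mul_card_subgroup N
  rw [← h1, ← h2] at h3
  refine Nat.eq_of_mul_eq_mul_right (m := (commutator G).index * Nat.card N)
    (Nat.mul_pos (Nat.pos_of_ne_zero Subgroup.index_ne_zero_of_finite) Nat.card_pos) ?_
  linarith

/-- For `N` of index `p` in the derived group: the inflated characters. -/
theorem exists_char_of_quotient {p : ℕ} [Fact p.Prime] (hP : IsPGroup p G) (hS : SameKer G)
    (N : Subgroup G) [N.Normal] (hle : N ≤ commutator G)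
    (hc : p * Nat.card N = Nat.card (commutator G)) :
    ∃ χ : Cfsg.IrrCharacter G, ∃ e : ℕ, (χ : G → ℂ) 1 ≠ 1 ∧ (χ : G → ℂ) 1 = ((p ^ e : ℕ) : ℂ) ∧
      (∀ g, g ∈ N ↔ (χ : G → ℂ) g = (χ : G → ℂ) 1) ∧
      ((frat p G).index = p ^ (2 * e) ∨ (frat p G).index = p ^ (2 * e + 1)) := by
  have hQ := card_commutator_quotient N hle hc
  obtain ⟨χ, e, h1, h2, h3⟩ := degree_of_sameKer (hP.to_quotient N) hQ (hS.quotient N)
  refine ⟨⟨fun g => (χ : G ⧸ N → ℂ) (QuotientGroup.mk' N g),
    Characters.isIrr_comp _ (QuotientGroup.mk'_surjective N) χ.2⟩, e, ?_, ?_, fun g => ?_, ?_⟩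
  · simpa using h1
  · simpa using h2
  · rw [← QuotientGroup.eq_one_iff (N := N)]
    refine ⟨fun h => by simp [h], fun h => ?_⟩
    exact faithful (hP.to_quotient N) hQ (hS.quotient N) h1 (by simpa using h)
  · have hmap : frat p (G ⧸ N) = (frat p G).map (QuotientGroup.mk' N) := by
      rw [frat, frat, Subgroup.map_sup, commutator_def, commutator_def, Subgroup.map_commutator,
        Subgroup.map_top_of_surjective _ (QuotientGroup.mk'_surjective N), MonoidHom.map_closure,
        ← Set.range_comp]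
      congr 2
      ext q
      constructor
      · rintro ⟨y, rfl⟩
        obtain ⟨g, rfl⟩ := QuotientGroup.mk'_surjective N y
        exact ⟨g, map_pow _ _ _⟩
      · rintro ⟨g, rfl⟩
        exact ⟨QuotientGroup.mk' N g, (map_pow _ _ _).symm⟩
    rwa [hmap, (frat p G).index_map_eq (QuotientGroup.mk'_surjective N)
      (by rw [QuotientGroup.ker_mk']; exact hle.trans le_sup_left)] at h3

/-- The normal subgroup of index `p` in the derived group is unique. -/
theorem eq_of_sameKer {p : ℕ} [Fact p.Prime] (hP : IsPGroup p G) (hS : SameKer G)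
    (N₁ N₂ : Subgroup G) [N₁.Normal] [N₂.Normal]
    (h₁ : N₁ ≤ commutator G) (c₁ : p * Nat.card N₁ = Nat.card (commutator G))
    (h₂ : N₂ ≤ commutator G) (c₂ : p * Nat.card N₂ = Nat.card (commutator G)) : N₁ = N₂ := by
  obtain ⟨χ, a, ha1, ha, hka, hia⟩ := exists_char_of_quotient hP hS N₁ h₁ c₁
  obtain ⟨ψ, b, hb1, hb, hkb, hib⟩ := exists_char_of_quotient hP hS N₂ h₂ c₂
  have hinj := Nat.pow_right_injective (Fact.out : p.Prime).two_le
  have hab : a = b := by
    rcases hia with hi | hi <;> rcases hib with hj | hj <;>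
      · have := hinj (hi.symm.trans hj); omega
  have hdeg : (χ : G → ℂ) 1 = (ψ : G → ℂ) 1 := by rw [ha, hb, hab]
  ext g
  rw [hka, hkb]
  exact ⟨hS χ ψ ha1 hdeg g, hS ψ χ hb1 hdeg.symm g⟩

end CfsgLib.SameDegree
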